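import Mathlib
import Groth.Agent.Lib.Helper8.Hens.SmoothReduced

/-!
# Torsors under étale groups over normal bases: algebra and generalities (helper8; S15873, S15874)
-/

set_option autoImplicit false
universe u
open TensorProduct CategoryTheory CategoryTheory.Limits AlgebraicGeometry

namespace Groth.Agent.H8.EtTors

section alg

variable {A B K : Type u} [CommRing A] [CommRing B] [Field K] [Algebra A B] [Algebra A K]

/-- elements of `B ⊗ K` integral over the smooth `A`-algebra `B` come from `B` (`A` normal,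
`K = Frac A`). -/
theorem exists_tmul_one_of_isIntegral [IsDomain A] [IsIntegrallyClosed A] [IsFractionRing A K]
    [Algebra.Smooth A B] (z : B ⊗[A] K) (hz : IsIntegral B z) :
    ∃ b : B, b ⊗ₜ[A] (1 : K) = z := by
  obtain ⟨t, ht⟩ := (TensorProduct.toIntegralClosure_bijective_of_smooth
    (R := A) (S := B) (B := K)).2 ⟨z, hz⟩
  have key : ∀ t : B ⊗[A] integralClosure A K, ∃ b : B, b ⊗ₜ[A] (1 : K) =
      ((TensorProduct.toIntegralClosure A B K t : integralClosure B (B ⊗[A] K)) : B ⊗[A] K) := by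
    intro t
    induction t with
    | zero => exact ⟨0, by simp⟩
    | add x y hx hy =>
      obtain ⟨b₁, h₁⟩ := hx
      obtain ⟨b₂, h₂⟩ := hy
      exact ⟨b₁ + b₂, by rw [map_add, Subalgebra.coe_add, ← h₁, ← h₂, TensorProduct.add_tmul]⟩
    | tmul x y =>
      obtain ⟨a, ha⟩ := (IsIntegrallyClosed.isIntegral_iff (R := A) (K := K)).mp y.2
      refine ⟨a • x, ?_⟩
      simp only [TensorProduct.toIntegralClosure, AlgHom.coe_codRestrict,
        Algebra.TensorProduct.map_tmul, AlgHom.coe_id, id_eq, Subalgebra.coe_val]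
      rw [← ha, Algebra.algebraMap_eq_smul_one, TensorProduct.smul_tmul]
  obtain ⟨b, hb⟩ := key t
  exact ⟨b, by rw [hb, ht]⟩

theorem exists_one_tmul_of_isIntegralElem [IsDomain A] [IsIntegrallyClosed A] [IsFractionRing A K]
    [Algebra.Smooth A B] (z : K ⊗[A] B)
    (hz : ((Algebra.TensorProduct.includeRight : B →ₐ[A] K ⊗[A] B) :
      B →+* K ⊗[A] B).IsIntegralElem z) :
    ∃ b : B, (1 : K) ⊗ₜ[A] b = z := by
  obtain ⟨p, hp, hpz⟩ := hz
  let e := Algebra.TensorProduct.comm A K B
  have hcomp : (e : K ⊗[A] B →+* B ⊗[A] K).comp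
      ((Algebra.TensorProduct.includeRight : B →ₐ[A] K ⊗[A] B) : B →+* K ⊗[A] B) =
      algebraMap B (B ⊗[A] K) := by
    ext b
    simp [e]
  have hint : IsIntegral B (e z) := by
    refine ⟨p, hp, ?_⟩
    have h1 := Polynomial.hom_eval₂ p
      ((Algebra.TensorProduct.includeRight : B →ₐ[A] K ⊗[A] B) : B →+* K ⊗[A] B)
      (e : K ⊗[A] B →+* B ⊗[A] K) z
    rw [hpz, map_zero, hcomp] at h1
    exact h1.symm
  obtain ⟨b, hb⟩ := exists_tmul_one_of_isIntegral (e z) hint
  refine ⟨b, ?_⟩
  apply e.injective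
  rw [← hb]
  simp [e]

theorem isArtinianRing_tensor [Algebra.Etale A B] : IsArtinianRing (K ⊗[A] B) := by
  haveI : Module.Finite K (K ⊗[A] B) := Algebra.FormallyUnramified.finite_of_free K (K ⊗[A] B)
  exact IsArtinianRing.of_finite K (K ⊗[A] B)

theorem isIntegral_of_etale_field (k C : Type u) [Field k] [CommRing C] [Algebra k C]
    [Algebra.Etale k C] : Algebra.IsIntegral k C := by
  haveI : Module.Finite k C := Algebra.FormallyUnramified.finite_of_free k C
  infer_instance

end alg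

section cat

variable {C : Type*} [Category C]

lemma isPullback_comp_mono_iso {P X Y Y' Z Z' : C} {fst : P ⟶ X} {snd : P ⟶ Y} {f : X ⟶ Z}
    {g : Y ⟶ Z} (h : IsPullback fst snd f g) (m : Z ⟶ Z') [Mono m] (e : Y ≅ Y') (g' : Y' ⟶ Z')
    (hg : e.hom ≫ g' = g ≫ m) : IsPullback fst (snd ≫ e.hom) (f ≫ m) g' := by
  refine IsPullback.mk' ?_ ?_ ?_
  · rw [Category.assoc, hg, ← Category.assoc, ← Category.assoc, h.w]
  · intro T φ φ' h1 h2
    refine h.hom_ext h1 ?_
    rw [← Category.assoc, ← Category.assoc] at h2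
    exact (cancel_mono e.hom).mp h2
  · intro T a b hab
    have h1 : a ≫ f = (b ≫ e.inv) ≫ g := by
      rw [← cancel_mono m, Category.assoc, hab, Category.assoc, Category.assoc, ← hg,
        Iso.inv_hom_id_assoc]
    refine ⟨h.lift a (b ≫ e.inv) h1, h.lift_fst _ _ _, ?_⟩
    rw [← Category.assoc, h.lift_snd, Category.assoc, Iso.inv_hom_id, Category.comp_id]

end cat

section sch

lemma cancel_SpecMap_of_injective {R T k : CommRingCat.{u}} (ι : R ⟶ T)
    (hι : Function.Injective ι.hom) (a b : Spec R ⟶ Spec k)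
    (h : Spec.map ι ≫ a = Spec.map ι ≫ b) : a = b := by
  obtain ⟨α, rfl⟩ := Spec.map_surjective a
  obtain ⟨β, rfl⟩ := Spec.map_surjective b
  rw [← Spec.map_comp, ← Spec.map_comp] at h
  have h2 := Spec.map_injective h
  congr 1
  ext x
  apply hι
  have := congrArg (fun φ => φ.hom x) h2
  exact this

/-- a scheme smooth over a reduced scheme is reduced -/
theorem isReduced_of_smooth {X S : Scheme.{u}} (f : X ⟶ S) [Smooth f] [IsReduced S] :
    IsReduced X := by
  haveI : ∀ x : X, _root_.IsReduced (X.presheaf.stalk x) := by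
    intro x
    obtain ⟨_, ⟨V, hV, rfl⟩, hxV, -⟩ := S.isBasis_affineOpens.exists_subset_of_mem_open
      (Set.mem_univ (f x)) isOpen_univ
    obtain ⟨_, ⟨U, hU, rfl⟩, hxU, hUV⟩ := X.isBasis_affineOpens.exists_subset_of_mem_open
      (show x ∈ (f ⁻¹ᵁ V : Set X) from hxV) (f ⁻¹ᵁ V).2
    have hsm := f.smooth_appLE hV hU hUV
    algebraize [(f.appLE V U hUV).hom]
    haveI : _root_.IsReduced Γ(X, U) := Groth.Agent.H8.Hens.isReduced_of_smooth Γ(S, V) Γ(X, U)
    letI : Algebra Γ(X, U) (X.presheaf.stalk x) := X.presheaf.algebra_section_stalk ⟨x, hxU⟩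
    haveI := hU.isLocalization_stalk ⟨x, hxU⟩
    exact isReduced_localizationPreserves (hU.primeIdealOf ⟨x, hxU⟩).asIdeal.primeCompl
      (X.presheaf.stalk x) inferInstance
  exact isReduced_of_isReduced_stalk X

end sch

end Groth.Agent.H8.EtTors
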