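import Mathlib
import Groth.Prelude.Def_NonAbH2
import Groth.Prelude.Def_Neron
import Groth.Agent.Lib.Helper8.RatSec.Main
import Groth.Agent.Lib.Helper3.TorsorProp
import Groth.Agent.Lib.Helper5.AlgSp.FppfLocal

/-!
# Sections of proper schemes over a Dedekind domain extend from the generic point
(helper8; S18487)
-/

set_option autoImplicit false
universe u
open CategoryTheory CategoryTheory.Limits AlgebraicGeometry

namespace Groth.Agent.H8.EtTors

/-- the local rings of the spectrum of a Dedekind domain are valuation rings -/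
theorem valuationRing_stalk (R : Type u) [CommRing R] [IsDedekindDomain R]
    (m : Spec (CommRingCat.of R)) :
    ValuationRing ((Spec (CommRingCat.of R)).presheaf.stalk m) := by
  haveI hdom : IsDomain ((Spec (CommRingCat.of R)).presheaf.stalk m) := inferInstance
  obtain ⟨p, rfl⟩ : ∃ p : PrimeSpectrum R, (show ↥(Spec (CommRingCat.of R)) from p) = m := ⟨m, rfl⟩
  letI : Algebra R ((Spec (CommRingCat.of R)).presheaf.stalk p) :=
      (StructureSheaf.toStalk R p).hom.toAlgebra
  haveI : IsLocalization.AtPrime ((Spec (CommRingCat.of R)).presheaf.stalk p)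
      p.asIdeal := StructureSheaf.IsLocalization.to_stalk R p
  by_cases hm : p.asIdeal = ⊥
  · rw [ValuationRing.iff_dvd_total]
    constructor
    intro a b
    by_cases hb : b = 0
    · left; rw [hb]; exact dvd_zero a
    · right
      obtain ⟨⟨r, s⟩, hrs⟩ := IsLocalization.surj p.asIdeal.primeCompl b
      have hr : r ≠ 0 := by
        rintro rfl
        simp only [map_zero] at hrs
        rcases mul_eq_zero.mp hrs with h | h
        · exact hb h
        · have := IsLocalization.map_units ((Spec (CommRingCat.of R)).presheaf.stalk p) s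
          rw [h] at this
          exact not_isUnit_zero this
      have hrm : r ∈ p.asIdeal.primeCompl := by
        show r ∉ p.asIdeal
        rw [hm]; exact hr
      have hu : IsUnit (algebraMap R ((Spec (CommRingCat.of R)).presheaf.stalk p) r) :=
        IsLocalization.map_units _ (⟨r, hrm⟩ : p.asIdeal.primeCompl)
      have hbu : IsUnit b := by
        have h1 : IsUnit (b * algebraMap R ((Spec (CommRingCat.of R)).presheaf.stalk p) s) := by
          rw [hrs]; exact hu
        exact isUnit_of_mul_isUnit_left h1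
      exact hbu.dvd
  · haveI := IsLocalization.AtPrime.isDiscreteValuationRing_of_dedekind_domain R hm
      ((Spec (CommRingCat.of R)).presheaf.stalk p)
    infer_instance

set_option maxHeartbeats 1000000 in
/-- gluing local sections which agree at a "generic point" -/
theorem glue_sections {S X T : Scheme.{u}} [IsReduced S] (f : X ⟶ S) [IsSeparated f]
    (ξ : T ⟶ S) (pt : T) (hT : ∀ t : T, ξ t = ξ pt) (hgen : ∀ y : S, ξ pt ⤳ y)
    (x : T ⟶ X)
    (hloc : ∀ s₀ : S, ∃ (V : S.Opens) (w : (V : Scheme.{u}) ⟶ X), s₀ ∈ V ∧ w ≫ f = V.ι ∧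
        ∀ j : T ⟶ (V : Scheme.{u}), j ≫ V.ι = ξ → j ≫ w = x) :
    ∃ σ : S ⟶ X, σ ≫ f = 𝟙 S ∧ ξ ≫ σ = x := by
  choose V w hsV hwf hwx using hloc
  have hcov : TopologicalSpace.IsOpenCover V := by
    show iSup V = ⊤
    rw [eq_top_iff]
    intro y _
    exact TopologicalSpace.Opens.mem_iSup.mpr ⟨y, hsV y⟩
  have hlift : ∀ a : S, ∃ j : T ⟶ (V a : Scheme.{u}), j ≫ (V a).ι = ξ := fun a => by
    refine ⟨IsOpenImmersion.lift (V a).ι ξ ?_, IsOpenImmersion.lift_fac _ _ _⟩
    rintro _ ⟨t, rfl⟩
    rw [Scheme.Opens.range_ι, hT t]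
    exact (hgen a).mem_open (V a).isOpen (hsV a)
  choose jj hjj using hlift
  have compat : ∀ a b : S,
      pullback.fst ((V a).ι) ((V b).ι) ≫ w a = pullback.snd ((V a).ι) ((V b).ι) ≫ w b := by
    intro a b
    haveI : IsReduced (pullback ((V a).ι) ((V b).ι)) :=
      isReduced_of_isOpenImmersion (pullback.fst ((V a).ι) ((V b).ι))
    obtain ⟨q, hq⟩ : ∃ q : pullback ((V a).ι) ((V b).ι) ⟶ S,
        q = pullback.fst ((V a).ι) ((V b).ι) ≫ (V a).ι := ⟨_, rfl⟩
    haveI : IsOpenImmersion q := hq ▸ inferInstance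
    obtain ⟨j, hj1, hj2⟩ : ∃ j : T ⟶ pullback ((V a).ι) ((V b).ι),
        j ≫ pullback.fst _ _ = jj a ∧ j ≫ pullback.snd _ _ = jj b :=
      ⟨pullback.lift (jj a) (jj b) (by rw [hjj, hjj]), pullback.lift_fst _ _ _,
        pullback.lift_snd _ _ _⟩
    haveI : IsDominant j := by
      refine ⟨?_⟩
      show ∀ w', w' ∈ closure (Set.range j)
      intro w'
      have hqj : q (j pt) = ξ pt := by
        rw [← Scheme.Hom.comp_apply, hq, ← Category.assoc, hj1, hjj]
      have h1 : j pt ⤳ w' := q.isOpenEmbedding.isInducing.specializes_iff.mp (by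
        rw [hqj]; exact hgen _)
      have h2 : ({j pt} : Set ↥(pullback ((V a).ι) ((V b).ι))) ⊆ Set.range j :=
        Set.singleton_subset_iff.mpr ⟨pt, rfl⟩
      exact closure_mono h2 (specializes_iff_mem_closure.mp h1)
    refine ext_of_isDominant_of_isSeparated f ?_ j ?_
    · rw [Category.assoc, Category.assoc, hwf, hwf, pullback.condition]
    · rw [← Category.assoc, hj1, ← Category.assoc, hj2, hwx a (jj a) (hjj a),
        hwx b (jj b) (hjj b)]
  obtain ⟨𝒰, h𝒰⟩ : ∃ 𝒰 : S.OpenCover, 𝒰 = S.openCoverOfIsOpenCover V hcov := ⟨_, rfl⟩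
  subst h𝒰
  refine ⟨(S.openCoverOfIsOpenCover V hcov).glueMorphisms w compat, ?_, ?_⟩
  · refine Scheme.Cover.hom_ext (S.openCoverOfIsOpenCover V hcov) _ _ fun o => ?_
    show (V o).ι ≫ _ ≫ f = (V o).ι ≫ 𝟙 S
    rw [← Category.assoc]
    erw [Scheme.Cover.ι_glueMorphisms (S.openCoverOfIsOpenCover V hcov) w compat o]
    rw [hwf, Category.comp_id]
  · rw [← hjj (ξ pt), Category.assoc]
    erw [Scheme.Cover.ι_glueMorphisms (S.openCoverOfIsOpenCover V hcov) w compat (ξ pt)]
    exact hwx _ _ (hjj _)

set_option maxHeartbeats 1600000 in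
/-- a `K`-point of a scheme universally closed, separated and locally of finite type over a
Dedekind domain `R` extends to an `R`-point -/
theorem exists_section_dedekind (R : Type u) [CommRing R] [IsDedekindDomain R]
    {X : Scheme.{u}} (f : X ⟶ Spec (CommRingCat.of R)) [UniversallyClosed f] [IsSeparated f]
    [LocallyOfFiniteType f]
    (x : Spec (CommRingCat.of (FractionRing R)) ⟶ X)
    (hx : x ≫ f = Spec.map (CommRingCat.ofHom (algebraMap R (FractionRing R)))) :
    ∃ σ : Spec (CommRingCat.of R) ⟶ X, σ ≫ f = 𝟙 _ ∧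
      Spec.map (CommRingCat.ofHom (algebraMap R (FractionRing R))) ≫ σ = x := by
  have hE : ValuativeCriterion.Existence f := by
    have h1 : (ValuativeCriterion.Existence ⊓ @QuasiCompact : MorphismProperty Scheme.{u}) f := by
      rw [← UniversallyClosed.eq_valuativeCriterion]
      infer_instance
    exact h1.1
  obtain ⟨ξ, hξ⟩ : ∃ ξ : Spec (CommRingCat.of (FractionRing R)) ⟶ Spec (CommRingCat.of R),
      ξ = Spec.map (CommRingCat.ofHom (algebraMap R (FractionRing R))) := ⟨_, rfl⟩
  rw [← hξ] at hx ⊢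
  obtain ⟨pt⟩ : Nonempty (Spec (CommRingCat.of (FractionRing R))) :=
    (inferInstance : Nonempty (PrimeSpectrum (FractionRing R)))
  have hT : ∀ t : Spec (CommRingCat.of (FractionRing R)), ξ t = ξ pt := fun t =>
    congrArg ξ (Subsingleton.elim (α := PrimeSpectrum (FractionRing R)) t pt)
  have hgen : ∀ y : Spec (CommRingCat.of R), ξ pt ⤳ y := by
    intro y
    obtain ⟨x', hx'⟩ : ∃ x' : PrimeSpectrum R, x' = ξ pt := ⟨_, rfl⟩
    obtain ⟨y', hy'⟩ : ∃ y' : PrimeSpectrum R, y' = y := ⟨_, rfl⟩
    have key : x' ≤ y' := by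
      intro a ha
      have ha' : algebraMap R (FractionRing R) a ∈
          (pt : PrimeSpectrum (FractionRing R)).asIdeal := by
        rw [hx', hξ] at ha
        exact ha
      have h0 : algebraMap R (FractionRing R) a = 0 := by
        by_contra hne
        exact (pt : PrimeSpectrum (FractionRing R)).isPrime.ne_top
          (Ideal.eq_top_of_isUnit_mem _ ha' (IsUnit.mk0 _ hne))
      have h00 : a = 0 :=
        (map_eq_zero_iff _ (IsFractionRing.injective R (FractionRing R))).mp h0
      rw [h00]
      exact y'.asIdeal.zero_mem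
    have hsp : x' ⤳ y' := (PrimeSpectrum.le_iff_specializes x' y').mp key
    rw [hx', hy'] at hsp
    exact hsp
  refine glue_sections f ξ pt hT hgen x ?_
  intro m
  -- the local ring at `m`
  obtain ⟨p, hp⟩ : ∃ p : PrimeSpectrum R, (show ↥(Spec (CommRingCat.of R)) from p) = m :=
    ⟨m, rfl⟩
  subst hp
  haveI hdom : IsDomain ((Spec (CommRingCat.of R)).presheaf.stalk p) :=
    inferInstanceAs (IsDomain ((Spec (CommRingCat.of R)).presheaf.stalk
      (show ↥(Spec (CommRingCat.of R)) from p)))
  haveI hval : ValuationRing ((Spec (CommRingCat.of R)).presheaf.stalk p) :=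
    valuationRing_stalk R p
  letI : Algebra R ((Spec (CommRingCat.of R)).presheaf.stalk p) :=
      (StructureSheaf.toStalk R p).hom.toAlgebra
  haveI : IsLocalization.AtPrime ((Spec (CommRingCat.of R)).presheaf.stalk p)
      p.asIdeal := StructureSheaf.IsLocalization.to_stalk R p
  have hunits : ∀ y : p.asIdeal.primeCompl, IsUnit (algebraMap R (FractionRing R) (y : R)) := by
    intro y
    have hy : (y : R) ≠ 0 := fun h => y.2 (h ▸ p.asIdeal.zero_mem)
    exact IsUnit.mk0 _ ((map_ne_zero_iff _ (IsFractionRing.injective R (FractionRing R))).mpr hy)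
  letI : Algebra ((Spec (CommRingCat.of R)).presheaf.stalk p) (FractionRing R) :=
    (IsLocalization.lift (M := p.asIdeal.primeCompl) hunits).toAlgebra
  haveI : IsScalarTower R ((Spec (CommRingCat.of R)).presheaf.stalk p) (FractionRing R) :=
    IsScalarTower.of_algebraMap_eq fun r => (IsLocalization.lift_eq hunits r).symm
  haveI : IsFractionRing ((Spec (CommRingCat.of R)).presheaf.stalk p) (FractionRing R) :=
    IsFractionRing.isFractionRing_of_isDomain_of_isLocalization p.asIdeal.primeCompl _ _
  have hsq : x ≫ f = Spec.map (CommRingCat.ofHom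
      (algebraMap ((Spec (CommRingCat.of R)).presheaf.stalk p) (FractionRing R))) ≫
      (Spec (CommRingCat.of R)).fromSpecStalk p := by
    rw [hx, hξ, Spec.fromSpecStalk_eq']
    have e1 : CommRingCat.ofHom (algebraMap R (FractionRing R)) =
        StructureSheaf.toStalk R p ≫ CommRingCat.ofHom
          (algebraMap ((Spec (CommRingCat.of R)).presheaf.stalk p) (FractionRing R)) := by
      ext r
      exact IsScalarTower.algebraMap_apply R ((Spec (CommRingCat.of R)).presheaf.stalk p)
        (FractionRing R) r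
    rw [e1, Spec.map_comp]
    rfl
  have htest : IsDomain ((Spec (CommRingCat.of R)).presheaf.stalk p) := inferInstance
  have htest2 : ValuationRing ((Spec (CommRingCat.of R)).presheaf.stalk p) := inferInstance
  obtain ⟨l, hl1, hl2⟩ := @Groth.Agent.H8.RatSec.exists_lift_of_existence' _ _ f hE
    ((Spec (CommRingCat.of R)).presheaf.stalk p) _ hdom hval (FractionRing R) _ _ _ x
    ((Spec (CommRingCat.of R)).fromSpecStalk p) hsq
  obtain ⟨U, hmU, w, hw1, hw2⟩ := spread_out_of_isGermInjective' (𝟙 (Spec (CommRingCat.of R))) f l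
    (by rw [hl1, Category.comp_id])
  refine ⟨U, w, hmU, by rw [hw2, Category.comp_id], ?_⟩
  intro j hj
  have hj' : j = Spec.map (CommRingCat.ofHom
      (algebraMap ((Spec (CommRingCat.of R)).presheaf.stalk p) (FractionRing R))) ≫
      U.fromSpecStalkOfMem p hmU := by
    rw [← cancel_mono U.ι, hj, Category.assoc, Scheme.Opens.fromSpecStalkOfMem_ι, ← hsq, hx]
  rw [hj', Category.assoc, ← hw1, hl2]

section main

variable (R : Type u) [CommRing R] [IsDedekindDomain R]
  (G : Over (Spec (CommRingCat.of R))) [GrpObj G] [IsProper G.hom]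

theorem main_S18487 (P : NonAbH1.TorsorSch G Scheme.fppfPrecoverage)
    (h : NonAbH1.HasSectionOver P.X (Neron.genPt R)) :
    NonAbH1.HasSectionOver P.X (𝟙 (Spec (CommRingCat.of R))) := by
  haveI : IsProper P.X.hom := Groth.Agent.H3.TorsorProp.hom_of_isTorsorFor P.act @IsProper
    Scheme.fppfPrecoverage P.isTorsor inferInstance
  obtain ⟨x, hx⟩ := h
  obtain ⟨σ, hσ, -⟩ := exists_section_dedekind R P.X.hom x hx
  exact ⟨σ, hσ⟩

end main

end Groth.Agent.H8.EtTors
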