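import Mathlib
import Groth.Agent.Lib.Helper8.EtTors.Alg

/-!
# Extending maps to an étale scheme over a field, and descent of a generic section (helper8)
-/

set_option autoImplicit false
universe u
open TensorProduct CategoryTheory CategoryTheory.Limits AlgebraicGeometry

namespace Groth.Agent.H8.EtTors

set_option maxHeartbeats 1000000 in
/-- `G` étale over a field `k`; `Γ(X, U)` integrally closed in `T`, `Spec T` a single point:
a morphism `Spec T ⟶ G` over `k` extends to `U`. -/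
theorem extend_to_U {X : Scheme.{u}} {U : X.Opens} (hU : IsAffineOpen U) {T : Type u} [CommRing T]
    (ι₁ : Γ(X, U) →+* T) (hinj : Function.Injective ι₁)
    (hic : ∀ t : T, ι₁.IsIntegralElem t → ∃ b, ι₁ b = t)
    [Subsingleton (PrimeSpectrum T)] [Nontrivial T]
    {k : Type u} [Field k] {G : Scheme.{u}} (π : G ⟶ Spec (CommRingCat.of k)) [Etale π]
    (uk : (U : Scheme.{u}) ⟶ Spec (CommRingCat.of k))
    (γη : Spec (CommRingCat.of T) ⟶ G)
    (hγ : γη ≫ π = (Spec.map (CommRingCat.ofHom ι₁) ≫ hU.isoSpec.inv) ≫ uk) :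
    ∃ γ' : (U : Scheme.{u}) ⟶ G,
      (Spec.map (CommRingCat.ofHom ι₁) ≫ hU.isoSpec.inv) ≫ γ' = γη ∧ γ' ≫ π = uk := by
  obtain ⟨pt⟩ : Nonempty (PrimeSpectrum T) := inferInstance
  obtain ⟨W, hW, hgW⟩ : ∃ W : G.Opens, IsAffineOpen W ∧ γη pt ∈ W := by
    obtain ⟨_, ⟨W, hW, rfl⟩, h1, -⟩ := G.isBasis_affineOpens.exists_subset_of_mem_open
      (Set.mem_univ (γη pt)) isOpen_univ
    exact ⟨W, hW, h1⟩
  have hrange : Set.range γη ⊆ Set.range W.ι := by
    rintro _ ⟨t, rfl⟩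
    rw [Scheme.Opens.range_ι]
    have : t = pt := Subsingleton.elim (α := PrimeSpectrum T) _ _
    rw [this]; exact hgW
  obtain ⟨γW, hγW⟩ : ∃ γW : Spec (CommRingCat.of T) ⟶ (W : Scheme.{u}), γW ≫ W.ι = γη :=
    ⟨IsOpenImmersion.lift W.ι γη hrange, IsOpenImmersion.lift_fac _ _ _⟩
  obtain ⟨θc, hθc⟩ : ∃ θc : Γ(G, W) ⟶ CommRingCat.of T, Spec.map θc = γW ≫ hW.isoSpec.hom :=
    Spec.map_surjective _
  have hWtop : W ≤ π ⁻¹ᵁ ⊤ := le_top
  obtain ⟨πW, hπW⟩ : ∃ πW : Γ(Spec (CommRingCat.of k), ⊤) ⟶ Γ(G, W), πW = π.appLE ⊤ W hWtop :=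
    ⟨_, rfl⟩
  have hπWet : πW.hom.Etale := hπW ▸ π.etale_appLE (isAffineOpen_top _) hW hWtop
  obtain ⟨κ, hκ⟩ : ∃ κ : k →+* Γ(G, W), κ = πW.hom.comp
      ((Scheme.ΓSpecIso (CommRingCat.of k)).symm.commRingCatIsoToRingEquiv).toRingHom := ⟨_, rfl⟩
  have hκet : κ.Etale := by
    rw [hκ]
    exact RingHom.Etale.respectsIso.2 _ _ hπWet
  obtain ⟨β, hβ⟩ : ∃ β : CommRingCat.of k ⟶ Γ(X, U), Spec.map β = hU.isoSpec.inv ≫ uk :=
    Spec.map_surjective _
  have hA : hW.isoSpec.hom ≫ Spec.map πW ≫ Spec.map (Scheme.ΓSpecIso (CommRingCat.of k)).inv =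
      W.ι ≫ π := by
    rw [← Scheme.isoSpec_Spec_inv, ← IsAffineOpen.fromSpec_top, hπW,
      IsAffineOpen.SpecMap_appLE_fromSpec π (isAffineOpen_top _) hW hWtop,
      hW.isoSpec_hom_fromSpec_assoc]
  have hcompat : θc.hom.comp κ = ι₁.comp β.hom := by
    have h1 : Spec.map ((Scheme.ΓSpecIso (CommRingCat.of k)).inv ≫ πW ≫ θc) =
        Spec.map (β ≫ CommRingCat.ofHom ι₁) := by
      rw [Spec.map_comp, Spec.map_comp, Spec.map_comp, hθc, hβ]
      simp only [Category.assoc]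
      rw [hA, ← Category.assoc, hγW, hγ, Category.assoc]
    have h2 := Spec.map_injective h1
    ext a
    have := congrArg (fun φ => φ.hom a) h2
    rw [hκ]
    exact this
  algebraize [κ]
  haveI := isIntegral_of_etale_field k Γ(G, W)
  have hint : ∀ c : Γ(G, W), ι₁.IsIntegralElem (θc.hom c) := by
    intro c
    obtain ⟨P, hP, hPc⟩ := Algebra.IsIntegral.isIntegral (R := k) c
    refine ⟨P.map β.hom, hP.map _, ?_⟩
    rw [Polynomial.eval₂_map, ← hcompat]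
    have h1 := Polynomial.hom_eval₂ P κ θc.hom c
    rw [← h1]
    have hPc' : Polynomial.eval₂ κ c P = 0 := hPc
    rw [hPc', map_zero]
  have hrangeθ : ∀ c : Γ(G, W), θc.hom c ∈ ι₁.range := fun c => by
    obtain ⟨b, hb⟩ := hic _ (hint c)
    exact ⟨b, hb⟩
  let e₁ : Γ(X, U) ≃+* ι₁.range := RingEquiv.ofBijective ι₁.rangeRestrict
    ⟨fun a b hab => hinj (congrArg Subtype.val hab), ι₁.rangeRestrict_surjective⟩
  obtain ⟨θ', hθ'⟩ : ∃ θ' : Γ(G, W) →+* Γ(X, U), ι₁.comp θ' = θc.hom := by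
    refine ⟨e₁.symm.toRingHom.comp (θc.hom.codRestrict ι₁.range hrangeθ), ?_⟩
    ext c
    have := e₁.apply_symm_apply ⟨θc.hom c, hrangeθ c⟩
    exact congrArg Subtype.val this
  have e1 : CommRingCat.ofHom θ' ≫ CommRingCat.ofHom ι₁ = θc := by
    ext c
    exact congrArg (fun φ => φ c) hθ'
  have hfirst : (Spec.map (CommRingCat.ofHom ι₁) ≫ hU.isoSpec.inv) ≫
      (hU.isoSpec.hom ≫ Spec.map (CommRingCat.ofHom θ') ≫ hW.fromSpec) = γη := by
    rw [Category.assoc, Iso.inv_hom_id_assoc, ← Category.assoc, ← Spec.map_comp, e1, hθc,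
      Category.assoc, hW.isoSpec_hom_fromSpec, hγW]
  refine ⟨hU.isoSpec.hom ≫ Spec.map (CommRingCat.ofHom θ') ≫ hW.fromSpec, hfirst, ?_⟩
  have hab : Spec.map (CommRingCat.ofHom ι₁) ≫ (hU.isoSpec.inv ≫
      (hU.isoSpec.hom ≫ Spec.map (CommRingCat.ofHom θ') ≫ hW.fromSpec) ≫ π) =
      Spec.map (CommRingCat.ofHom ι₁) ≫ (hU.isoSpec.inv ≫ uk) := by
    rw [← Category.assoc, ← Category.assoc, hfirst, hγ, Category.assoc]
  have := cancel_SpecMap_of_injective (CommRingCat.ofHom ι₁) hinj _ _ hab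
  exact (cancel_epi hU.isoSpec.inv).mp this

set_option maxHeartbeats 1000000 in
/-- descent of a generically constant self-map of an étale neighbourhood to a local section -/
theorem descend {X S : Scheme.{u}} (f : X ⟶ S) [IsSeparated f] [IsReduced S]
    (U : X.Opens) [Etale (U.ι ≫ f)]
    {K : Type u} [Field K] (ξ : Spec (CommRingCat.of K) ⟶ S) [IsDominant ξ] [QuasiCompact ξ]
    {P : Scheme.{u}} [Nonempty P] (pr₁ : P ⟶ Spec (CommRingCat.of K)) (h : P ⟶ (U : Scheme.{u}))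
    (sq : IsPullback pr₁ h ξ (U.ι ≫ f))
    (x : Spec (CommRingCat.of K) ⟶ X) (τ : (U : Scheme.{u}) ⟶ X) (hτf : τ ≫ f = U.ι ≫ f)
    (hτ : h ≫ τ = pr₁ ≫ x) :
    ∃ (V : S.Opens) (w : (V : Scheme.{u}) ⟶ X), (∀ u : U, f u.1 ∈ V) ∧ w ≫ f = V.ι ∧
      ∀ j : Spec (CommRingCat.of K) ⟶ (V : Scheme.{u}), j ≫ V.ι = ξ → j ≫ w = x := by
  obtain ⟨g, hg⟩ : ∃ g : (U : Scheme.{u}) ⟶ S, g = U.ι ≫ f := ⟨_, rfl⟩
  haveI : Etale g := hg ▸ inferInstance
  have hsq : IsPullback pr₁ h ξ g := by rw [hg]; exact sq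
  have hτg : τ ≫ f = g := by rw [hg]; exact hτf
  obtain ⟨V, hV⟩ : ∃ V : S.Opens, (V : Set S) = Set.range g :=
    ⟨⟨Set.range g, g.isOpenMap.isOpen_range⟩, rfl⟩
  have hrange : Set.range g ⊆ Set.range V.ι := by rw [Scheme.Opens.range_ι, hV]
  obtain ⟨g', hg'⟩ : ∃ g' : (U : Scheme.{u}) ⟶ (V : Scheme.{u}), g' ≫ V.ι = g :=
    ⟨IsOpenImmersion.lift V.ι g hrange, IsOpenImmersion.lift_fac _ _ _⟩
  haveI : Surjective g' := by
    constructor
    intro v
    have hv : v.1 ∈ Set.range g := by rw [← hV]; exact v.2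
    obtain ⟨u, hu⟩ := hv
    refine ⟨u, ?_⟩
    apply V.ι.injective
    rw [← Scheme.Hom.comp_apply, hg', hu]
    rfl
  haveI : Etale (g' ≫ V.ι) := by rw [hg']; infer_instance
  haveI : Etale g' := Etale.of_comp g' V.ι
  have key : pullback.fst g g ≫ τ = pullback.snd g g ≫ τ := by
    obtain ⟨r, hr⟩ : ∃ r : pullback g g ⟶ S, r = pullback.fst g g ≫ g := ⟨_, rfl⟩
    haveI : Etale r := hr ▸ inferInstance
    haveI : IsReduced (pullback g g) := isReduced_of_smooth r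
    haveI : IsSchemeTheoreticallyDominant ξ := .of_isDominant ξ
    haveI : IsSchemeTheoreticallyDominant (pullback.snd ξ r) := inferInstance
    haveI : IsDominant (pullback.snd ξ r) := inferInstance
    refine ext_of_isDominant_of_isSeparated f ?_ (pullback.snd ξ r) ?_
    · rw [Category.assoc, Category.assoc, hτg, pullback.condition]
    · have c1 : pullback.fst ξ r ≫ ξ = (pullback.snd ξ r ≫ pullback.fst g g) ≫ g := by
        rw [pullback.condition, hr, Category.assoc]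
      have c2 : pullback.fst ξ r ≫ ξ = (pullback.snd ξ r ≫ pullback.snd g g) ≫ g := by
        rw [c1, Category.assoc, Category.assoc, pullback.condition]
      obtain ⟨ℓ₁, hℓ₁a, hℓ₁b⟩ : ∃ ℓ : pullback ξ r ⟶ P, ℓ ≫ pr₁ = pullback.fst ξ r ∧
          ℓ ≫ h = pullback.snd ξ r ≫ pullback.fst g g :=
        ⟨hsq.lift _ _ c1, hsq.lift_fst _ _ _, hsq.lift_snd _ _ _⟩
      obtain ⟨ℓ₂, hℓ₂a, hℓ₂b⟩ : ∃ ℓ : pullback ξ r ⟶ P, ℓ ≫ pr₁ = pullback.fst ξ r ∧
          ℓ ≫ h = pullback.snd ξ r ≫ pullback.snd g g :=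
        ⟨hsq.lift _ _ c2, hsq.lift_fst _ _ _, hsq.lift_snd _ _ _⟩
      rw [← Category.assoc, ← Category.assoc, ← hℓ₁b, ← hℓ₂b, Category.assoc, Category.assoc, hτ,
        ← Category.assoc, ← Category.assoc, hℓ₁a, hℓ₂a]
  have compat : ∀ {Z : Scheme.{u}} (a b : Z ⟶ (U : Scheme.{u})), a ≫ g' = b ≫ g' →
      a ≫ τ = b ≫ τ := by
    intro Z a b hab
    have hab' : a ≫ g = b ≫ g := by rw [← hg', ← Category.assoc, hab, Category.assoc]
    have h1 : a ≫ τ = pullback.lift a b hab' ≫ pullback.fst g g ≫ τ := by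
      rw [pullback.lift_fst_assoc]
    have h2 : b ≫ τ = pullback.lift a b hab' ≫ pullback.snd g g ≫ τ := by
      rw [pullback.lift_snd_assoc]
    rw [h1, h2, key]
  obtain ⟨w, hw⟩ : ∃ w : (V : Scheme.{u}) ⟶ X, g' ≫ w = τ :=
    ⟨EffectiveEpi.desc g' τ compat, EffectiveEpi.fac g' τ compat⟩
  haveI : Epi g' := Flat.epi_of_flat_of_surjective g'
  refine ⟨V, w, ?_, ?_, ?_⟩
  · intro u
    have h1 : g u ∈ Set.range g := ⟨u, rfl⟩
    rw [← hV, hg, Scheme.Hom.comp_apply] at h1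
    exact h1
  · rw [← cancel_epi g', ← Category.assoc, hw, hτg, hg']
  · intro j hj
    haveI : Flat g := inferInstance
    haveI : Flat pr₁ := MorphismProperty.of_isPullback (P := @Flat) hsq.flip inferInstance
    haveI : Surjective pr₁ := by
      constructor
      intro y
      obtain ⟨p⟩ := ‹Nonempty P›
      exact ⟨p, Subsingleton.elim (α := PrimeSpectrum K) _ _⟩
    haveI : Epi pr₁ := Flat.epi_of_flat_of_surjective pr₁
    have e1 : pr₁ ≫ j = h ≫ g' := by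
      rw [← cancel_mono V.ι, Category.assoc, Category.assoc, hj, hg']
      exact hsq.w
    rw [← cancel_epi pr₁, ← Category.assoc, e1, Category.assoc, hw, hτ]

end Groth.Agent.H8.EtTors
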