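import Mathlib
import Groth.Agent.Lib.Helper8.EtTors.Alg

/-!
# Generic fibres of affine opens of an étale scheme over a normal affine base (helper8)
-/

set_option autoImplicit false
universe u
open TensorProduct CategoryTheory CategoryTheory.Limits AlgebraicGeometry

namespace Groth.Agent.H8.EtTors

section pack

variable {X S : Scheme.{u}} (f : X ⟶ S) {V₀ : S.Opens} (hV₀ : IsAffineOpen V₀)
  (K : Type u) [Field K] [Algebra Γ(S, V₀) K]

/-- data attached to an affine open `U` of `X` over `V₀`: a model `Spec T` of the generic fibre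
of `U`, with `Γ(X, U)` integrally closed in `T`. -/
structure GenFib {U : X.Opens} (hU : IsAffineOpen U) where
  T : Type u
  [inst : CommRing T]
  ι₁ : Γ(X, U) →+* T
  ι₂ : K →+* T
  sq : IsPullback (Spec.map (CommRingCat.ofHom ι₂))
        (Spec.map (CommRingCat.ofHom ι₁) ≫ hU.isoSpec.inv)
        (Spec.map (CommRingCat.ofHom (algebraMap Γ(S, V₀) K)) ≫ hV₀.fromSpec) (U.ι ≫ f)
  inj : Function.Injective ι₁
  ic : ∀ t : T, ι₁.IsIntegralElem t → ∃ b, ι₁ b = t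
  art : IsArtinianRing T

attribute [instance] GenFib.inst

variable [Etale f]

theorem pack [IsDomain Γ(S, V₀)] [IsIntegrallyClosed Γ(S, V₀)] [IsFractionRing Γ(S, V₀) K]
    {U : X.Opens} (hU : IsAffineOpen U) (hUV : U ≤ f ⁻¹ᵁ V₀) :
    Nonempty (GenFib f hV₀ K hU) := by
  have h1 := f.etale_appLE hV₀ hU hUV
  have h2 := f.flat_appLE hV₀ hU hUV
  have h3 := f.smooth_appLE hV₀ hU hUV
  algebraize [(f.appLE V₀ U hUV).hom]
  have hsq0 := isPullback_SpecMap_of_isPushout _ _ _ _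
    (CommRingCat.isPushout_tensorProduct Γ(S, V₀) K Γ(X, U))
  have hφ : CommRingCat.ofHom (algebraMap Γ(S, V₀) Γ(X, U)) = f.appLE V₀ U hUV := rfl
  have hsq := isPullback_comp_mono_iso hsq0 hV₀.fromSpec hU.isoSpec.symm (U.ι ≫ f) (by
    show hU.isoSpec.inv ≫ U.ι ≫ f =
      Spec.map (CommRingCat.ofHom (algebraMap Γ(S, V₀) Γ(X, U))) ≫ hV₀.fromSpec
    rw [hφ, IsAffineOpen.SpecMap_appLE_fromSpec f hV₀ hU hUV, ← Category.assoc]
    rfl)
  exact ⟨{ T := K ⊗[Γ(S, V₀)] Γ(X, U)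
           ι₁ := (Algebra.TensorProduct.includeRight :
              Γ(X, U) →ₐ[Γ(S, V₀)] K ⊗[Γ(S, V₀)] Γ(X, U)).toRingHom
           ι₂ := Algebra.TensorProduct.includeLeftRingHom
           sq := hsq
           inj := Algebra.TensorProduct.includeRight_injective
              (IsFractionRing.injective Γ(S, V₀) K)
           ic := fun t ht => (exists_one_tmul_of_isIntegralElem t ht).imp fun b hb => hb
           art := isArtinianRing_tensor }⟩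

set_option maxHeartbeats 1000000 in
theorem shrink [IsDomain Γ(S, V₀)] [IsIntegrallyClosed Γ(S, V₀)] [IsFractionRing Γ(S, V₀) K]
    (e' : X) (he' : f e' ∈ V₀) :
    ∃ (U : X.Opens) (hU : IsAffineOpen U) (D : GenFib f hV₀ K hU), e' ∈ U ∧ U ≤ f ⁻¹ᵁ V₀ ∧
      Subsingleton (PrimeSpectrum D.T) ∧ Nontrivial D.T := by
  obtain ⟨U₀, hU₀, heU₀, hU₀V⟩ : ∃ U₀ : X.Opens, IsAffineOpen U₀ ∧ e' ∈ U₀ ∧ U₀ ≤ f ⁻¹ᵁ V₀ := by
    obtain ⟨_, ⟨U₀, hU₀, rfl⟩, h1, h2⟩ := X.isBasis_affineOpens.exists_subset_of_mem_open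
      (show e' ∈ (f ⁻¹ᵁ V₀ : Set X) from he') (f ⁻¹ᵁ V₀).2
    exact ⟨U₀, hU₀, h1, h2⟩
  obtain ⟨D₀⟩ := pack f hV₀ K hU₀ hU₀V
  haveI := D₀.art
  obtain ⟨h₀, hh₀⟩ : ∃ h₀ : Spec (CommRingCat.of D₀.T) ⟶ (U₀ : Scheme.{u}),
      h₀ = Spec.map (CommRingCat.ofHom D₀.ι₁) ≫ hU₀.isoSpec.inv := ⟨_, rfl⟩
  obtain ⟨ξ, hξ⟩ : ∃ ξ : Spec (CommRingCat.of K) ⟶ S,
      ξ = Spec.map (CommRingCat.ofHom (algebraMap Γ(S, V₀) K)) ≫ hV₀.fromSpec := ⟨_, rfl⟩
  have sq₀ : IsPullback (Spec.map (CommRingCat.ofHom D₀.ι₂)) h₀ ξ (U₀.ι ≫ f) := by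
    rw [hh₀, hξ]; exact D₀.sq
  obtain ⟨pt₀⟩ : Nonempty (Spec (CommRingCat.of K)) := inferInstance
  -- `ξ pt₀` specializes to `f e'`
  have hspec : ξ pt₀ ⤳ (U₀.ι ≫ f) ⟨e', heU₀⟩ := by
    obtain ⟨q', hq'⟩ : ∃ q', hV₀.fromSpec q' = f e' := by
      have : f e' ∈ Set.range hV₀.fromSpec := by rw [hV₀.range_fromSpec]; exact he'
      exact this
    have e1 : ξ pt₀ = hV₀.fromSpec
        (Spec.map (CommRingCat.ofHom (algebraMap Γ(S, V₀) K)) pt₀) := by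
      rw [hξ, Scheme.Hom.comp_apply]
    have e2 : (U₀.ι ≫ f) ⟨e', heU₀⟩ = f e' := by rw [Scheme.Hom.comp_apply]; rfl
    rw [e1, e2, ← hq']
    obtain ⟨x', hx'⟩ : ∃ x' : PrimeSpectrum Γ(S, V₀), x' = Spec.map (CommRingCat.ofHom
        (algebraMap Γ(S, V₀) K)) pt₀ := ⟨_, rfl⟩
    obtain ⟨q'', hq''⟩ : ∃ q'' : PrimeSpectrum Γ(S, V₀), q'' = q' := ⟨_, rfl⟩
    have key : x' ≤ q'' := by
      intro a ha
      have ha' : algebraMap Γ(S, V₀) K a ∈ (pt₀ : PrimeSpectrum K).asIdeal := by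
        rw [hx'] at ha
        exact ha
      have h0 : algebraMap Γ(S, V₀) K a = 0 := by
        by_contra hne
        exact (pt₀ : PrimeSpectrum K).isPrime.ne_top
          (Ideal.eq_top_of_isUnit_mem _ ha' (IsUnit.mk0 _ hne))
      have h00 : a = 0 := (map_eq_zero_iff _ (IsFractionRing.injective Γ(S, V₀) K)).mp h0
      rw [h00]
      exact q''.asIdeal.zero_mem
    have hsp : x' ⤳ q'' := (PrimeSpectrum.le_iff_specializes x' q'').mp key
    rw [hx', hq''] at hsp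
    exact hsp.map hV₀.fromSpec.continuous
  obtain ⟨e₀, he₀, hge₀⟩ := (Flat.generalizingMap (U₀.ι ≫ f)) hspec
  obtain ⟨z, hz1, hz2⟩ := Scheme.Pullback.exists_preimage_pullback (f := ξ) (g := U₀.ι ≫ f)
    pt₀ e₀ hge₀.symm
  obtain ⟨p, hp⟩ : ∃ p : Spec (CommRingCat.of D₀.T), p = sq₀.isoPullback.inv z := ⟨_, rfl⟩
  have hp2 : h₀ p = e₀ := by
    rw [hp, ← Scheme.Hom.comp_apply, sq₀.isoPullback_inv_snd, hz2]
  -- the idempotent
  obtain ⟨ε, hεp, hεid, hεq⟩ :=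
    IsArtinianRing.exists_not_mem_forall_mem_of_ne (p : PrimeSpectrum D₀.T).asIdeal
  have hεint : D₀.ι₁.IsIntegralElem ε := by
    refine ⟨Polynomial.X * (Polynomial.X - Polynomial.C 1),
      Polynomial.monic_X.mul (Polynomial.monic_X_sub_C 1), ?_⟩
    rw [Polynomial.eval₂_mul, Polynomial.eval₂_X, Polynomial.eval₂_sub, Polynomial.eval₂_X,
      Polynomial.eval₂_C, map_one, mul_sub, mul_one, hεid.eq, sub_self]
  obtain ⟨b, hb⟩ := D₀.ic ε hεint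
  have hbid : b * b = b := D₀.inj (by rw [map_mul, hb, hεid.eq])
  have hmemb : ∀ (q : PrimeSpectrum Γ(X, U₀)) (t : Γ(X, U₀)),
      hU₀.fromSpec q ∈ X.basicOpen t ↔ t ∉ q.asIdeal := by
    intro q t
    show q ∈ hU₀.fromSpec ⁻¹ᵁ X.basicOpen t ↔ _
    rw [hU₀.fromSpec_preimage_basicOpen]
    exact PrimeSpectrum.mem_basicOpen _ _
  obtain ⟨U₁, hU₁def⟩ : ∃ U₁ : X.Opens, U₁ = X.basicOpen b := ⟨_, rfl⟩
  have hU₁ : IsAffineOpen U₁ := hU₁def ▸ hU₀.basicOpen b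
  have hle : U₁ ≤ U₀ := hU₁def ▸ X.basicOpen_le b
  have hU₁V : U₁ ≤ f ⁻¹ᵁ V₀ := hle.trans hU₀V
  -- `e' ∈ U₁`
  have he'U₁ : e' ∈ U₁ := by
    obtain ⟨q', hq'⟩ : ∃ q' : PrimeSpectrum Γ(X, U₀), q' = hU₀.isoSpec.hom ⟨e', heU₀⟩ := ⟨_, rfl⟩
    obtain ⟨q₀, hq₀⟩ : ∃ q₀ : PrimeSpectrum Γ(X, U₀),
        q₀ = Spec.map (CommRingCat.ofHom D₀.ι₁) p := ⟨_, rfl⟩
    have hfq' : hU₀.fromSpec q' = e' := by
      rw [hq', ← IsAffineOpen.isoSpec_inv_ι, Scheme.Hom.comp_apply, ← Scheme.Hom.comp_apply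
        hU₀.isoSpec.hom, Iso.hom_inv_id]
      rfl
    have hq₀e₀ : hU₀.isoSpec.inv q₀ = e₀ := by
      rw [hq₀, ← hp2, hh₀, Scheme.Hom.comp_apply]
    have hsp : q₀ ⤳ q' := by
      have h1 := he₀.map hU₀.isoSpec.hom.continuous
      rw [← hq₀e₀, ← Scheme.Hom.comp_apply, Iso.inv_hom_id] at h1
      rw [hq']
      exact h1
    have hle' : q₀ ≤ q' := (PrimeSpectrum.le_iff_specializes q₀ q').mpr hsp
    have hb0 : b ∉ q₀.asIdeal := by
      intro hbm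
      apply hεp
      rw [hq₀] at hbm
      have : D₀.ι₁ b ∈ (p : PrimeSpectrum D₀.T).asIdeal := hbm
      rwa [hb] at this
    have h1b : 1 - b ∈ q₀.asIdeal := by
      have hz : b * (1 - b) ∈ q₀.asIdeal := by
        rw [mul_sub, mul_one, hbid, sub_self]; exact q₀.asIdeal.zero_mem
      exact (q₀.isPrime.mem_or_mem hz).resolve_left hb0
    have hbq' : b ∉ q'.asIdeal := by
      intro hbm
      apply q'.isPrime.ne_top
      rw [Ideal.eq_top_iff_one]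
      have := q'.asIdeal.add_mem hbm (hle' h1b)
      rwa [add_sub_cancel] at this
    rw [hU₁def, ← hfq', hmemb]
    exact hbq'
  obtain ⟨D₁⟩ := pack f hV₀ K hU₁ hU₁V
  refine ⟨U₁, hU₁, D₁, he'U₁, hU₁V, ?_, ?_⟩
  · obtain ⟨h₁, hh₁⟩ : ∃ h₁ : Spec (CommRingCat.of D₁.T) ⟶ (U₁ : Scheme.{u}),
        h₁ = Spec.map (CommRingCat.ofHom D₁.ι₁) ≫ hU₁.isoSpec.inv := ⟨_, rfl⟩
    have sq₁ : IsPullback (Spec.map (CommRingCat.ofHom D₁.ι₂)) h₁ ξ (U₁.ι ≫ f) := by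
      rw [hh₁, hξ]; exact D₁.sq
    obtain ⟨m, hm1, hm2⟩ : ∃ m : Spec (CommRingCat.of D₁.T) ⟶ Spec (CommRingCat.of D₀.T),
        m ≫ Spec.map (CommRingCat.ofHom D₀.ι₂) = Spec.map (CommRingCat.ofHom D₁.ι₂) ∧
        m ≫ h₀ = h₁ ≫ X.homOfLE hle :=
      ⟨sq₀.lift (Spec.map (CommRingCat.ofHom D₁.ι₂)) (h₁ ≫ X.homOfLE hle) (by
        rw [sq₁.w, Category.assoc, ← Category.assoc (X.homOfLE hle), Scheme.homOfLE_ι]),
        sq₀.lift_fst _ _ _, sq₀.lift_snd _ _ _⟩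
    haveI : Mono m := by
      constructor
      intro Z a c hac
      apply sq₁.hom_ext
      · rw [← hm1, ← Category.assoc, hac, Category.assoc]
      · rw [← cancel_mono (X.homOfLE hle), Category.assoc, Category.assoc, ← hm2,
          ← Category.assoc, hac, Category.assoc]
    have hall : ∀ t : Spec (CommRingCat.of D₁.T), m t = p := by
      intro t
      have h1 : U₀.ι (h₀ (m t)) ∈ X.basicOpen b := by
        have e1 : h₀ (m t) = (X.homOfLE hle) (h₁ t) := by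
          rw [← Scheme.Hom.comp_apply, hm2, Scheme.Hom.comp_apply]
        rw [e1, ← Scheme.Hom.comp_apply, Scheme.homOfLE_ι, ← hU₁def]
        exact (h₁ t).2
      have h2 : U₀.ι (h₀ (m t)) =
          hU₀.fromSpec (Spec.map (CommRingCat.ofHom D₀.ι₁) (m t)) := by
        rw [hh₀, Scheme.Hom.comp_apply, ← IsAffineOpen.isoSpec_inv_ι, Scheme.Hom.comp_apply]
      rw [h2, hmemb] at h1
      have h3 : ε ∉ (m t : PrimeSpectrum D₀.T).asIdeal := by
        intro hε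
        apply h1
        show D₀.ι₁ b ∈ (m t : PrimeSpectrum D₀.T).asIdeal
        rw [hb]; exact hε
      by_contra hne
      exact h3 (hεq _ (m t : PrimeSpectrum D₀.T).isPrime
        (fun heq => hne (PrimeSpectrum.ext heq)))
    constructor
    intro t t'
    exact m.injective ((hall t).trans (hall t').symm)
  · haveI : Nonempty U₁ := ⟨⟨e', he'U₁⟩⟩
    exact D₁.inj.nontrivial

end pack

end Groth.Agent.H8.EtTors
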