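import Mathlib
import Groth.Prelude.Def_Pi1
import Groth.Prelude.Def_NonAbH2
import Groth.Prelude.Def_ActBC
import Groth.Agent.Lib.Helper8.EtTors.Pack
import Groth.Agent.Lib.Helper8.EtTors.Desc
import Groth.Agent.Lib.Helper8.Tors.Pts
import Groth.Agent.Lib.Helper8.RatSec.Main
import Groth.Agent.Lib.Helper8.InjOpen.Main
import Groth.Agent.Lib.Helper3.TorsorProp
import Groth.Agent.Lib.Helper5.AlgSp.FppfLocal
import Groth.Agent.Lib.Helper9.Misc.GZB2

/-!
# Torsors under étale groups over a normal integral base: generic sections extend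
(helper8; S15873, S15874)
-/

set_option autoImplicit false
universe u
open CategoryTheory CategoryTheory.Limits MonoidalCategory CartesianMonoidalCategory MonObj
  AlgebraicGeometry

namespace Groth.Agent.H8.EtTors

section generic

/-- `κ(η)` is the fraction field of the sections over a nonempty affine open -/
theorem generic_setup (S : Scheme.{u}) [IsIntegral S] {V₀ : S.Opens} (hV₀ : IsAffineOpen V₀)
    [Nonempty V₀] :
    ∃ (ψ : Γ(S, V₀) →+* S.residueField (genericPoint S)),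
      (letI := ψ.toAlgebra; IsFractionRing Γ(S, V₀) (S.residueField (genericPoint S))) ∧
      S.fromSpecResidueField (genericPoint S) = Spec.map (CommRingCat.ofHom ψ) ≫ hV₀.fromSpec := by
  have hηV : genericPoint S ∈ V₀ :=
    ((genericPoint_spec S).mem_open_set_iff V₀.isOpen).mpr (by simpa using ‹Nonempty V₀›)
  refine ⟨(S.residue (genericPoint S)).hom.comp (S.presheaf.germ V₀ (genericPoint S) hηV).hom,
    ?_, ?_⟩
  · letI : Algebra Γ(S, V₀) (S.residueField (genericPoint S)) :=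
      ((S.residue (genericPoint S)).hom.comp
        (S.presheaf.germ V₀ (genericPoint S) hηV).hom).toAlgebra
    haveI := functionField_isFractionRing_of_isAffineOpen S V₀ hV₀
    have hbij : Function.Bijective (S.residue (genericPoint S)).hom :=
      Groth.Agent.H8.InjOpen.residue_bijective_of_isField (S.presheaf.stalk (genericPoint S))
        (Field.toIsField S.functionField)
    let e : S.functionField ≃ₐ[Γ(S, V₀)] S.residueField (genericPoint S) :=
      AlgEquiv.ofRingEquiv (f := RingEquiv.ofBijective (S.residue (genericPoint S)).hom hbij)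
        (fun a => rfl)
    exact IsLocalization.isLocalization_of_algEquiv (nonZeroDivisors Γ(S, V₀)) e
  · have h1 : CommRingCat.ofHom ((S.residue (genericPoint S)).hom.comp
        (S.presheaf.germ V₀ (genericPoint S) hηV).hom) =
        S.presheaf.germ V₀ (genericPoint S) hηV ≫ S.residue (genericPoint S) := rfl
    rw [h1, Spec.map_comp, Category.assoc]
    show Spec.map (S.residue (genericPoint S)) ≫ S.fromSpecStalk (genericPoint S) = _
    rw [← hV₀.fromSpecStalk_eq_fromSpecStalk hηV]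
    rfl

lemma exists_lift_generic (S : Scheme.{u}) [IsIntegral S] (V : S.Opens)
    (hne : (V : Set S).Nonempty) :
    ∃ j : Spec (S.residueField (genericPoint S)) ⟶ (V : Scheme.{u}),
      j ≫ V.ι = S.fromSpecResidueField (genericPoint S) := by
  have hηV : genericPoint S ∈ V :=
    ((genericPoint_spec S).mem_open_set_iff V.isOpen).mpr (by simpa using hne)
  refine ⟨IsOpenImmersion.lift V.ι _ ?_, IsOpenImmersion.lift_fac _ _ _⟩
  rintro _ ⟨t, rfl⟩
  rw [Scheme.Opens.range_ι, Scheme.fromSpecResidueField_apply]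
  exact hηV

lemma isDominant_of_generic {S W : Scheme.{u}} [IsIntegral S] (q : W ⟶ S) [IsOpenImmersion q]
    {K : CommRingCat.{u}} (j : Spec K ⟶ W) (pt : Spec K) (hpt : q (j pt) = genericPoint S) :
    IsDominant j := by
  refine ⟨?_⟩
  show ∀ w, w ∈ closure (Set.range j)
  intro w
  have h1 : j pt ⤳ w := q.isOpenEmbedding.isInducing.specializes_iff.mp (by
    rw [hpt]; exact genericPoint_specializes _)
  have h2 : ({j pt} : Set W) ⊆ Set.range j := Set.singleton_subset_iff.mpr ⟨pt, rfl⟩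
  exact closure_mono h2 (specializes_iff_mem_closure.mp h1)

end generic

section loc

variable {k : Type u} [Field k] (G : Over (Spec (CommRingCat.of k))) [GrpObj G] [Etale G.hom]
  {S : Scheme.{u}} (s : S ⟶ Spec (CommRingCat.of k))
  {X : Over S} (a : AlgGrp.Action (Red.bc s G) X) (hpt : NonAbH1.IsPseudoTorsorSch a)

set_option maxHeartbeats 1600000 in
include hpt in
theorem exists_local_section [IsReduced S] [Etale X.hom] [IsSeparated X.hom]
    {V₀ : S.Opens} (hV₀ : IsAffineOpen V₀) (K : Type u) [Field K] [Algebra Γ(S, V₀) K]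
    [IsDomain Γ(S, V₀)] [IsIntegrallyClosed Γ(S, V₀)] [IsFractionRing Γ(S, V₀) K]
    (ξ : Spec (CommRingCat.of K) ⟶ S)
    (hξ : ξ = Spec.map (CommRingCat.ofHom (algebraMap Γ(S, V₀) K)) ≫ hV₀.fromSpec)
    [IsDominant ξ] [QuasiCompact ξ]
    (x : Spec (CommRingCat.of K) ⟶ X.left) (hx : x ≫ X.hom = ξ)
    (e' : X.left) (he' : X.hom e' ∈ V₀) :
    ∃ (V : S.Opens) (w : (V : Scheme.{u}) ⟶ X.left), X.hom e' ∈ V ∧ w ≫ X.hom = V.ι ∧
      ∀ j : Spec (CommRingCat.of K) ⟶ (V : Scheme.{u}), j ≫ V.ι = ξ → j ≫ w = x := by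
  obtain ⟨U, hU, D, he'U, hUV, hsub, hnt⟩ := shrink X.hom hV₀ K e' he'
  haveI := hsub
  haveI := hnt
  obtain ⟨h, hh⟩ : ∃ h : Spec (CommRingCat.of D.T) ⟶ (U : Scheme.{u}),
      h = Spec.map (CommRingCat.ofHom D.ι₁) ≫ hU.isoSpec.inv := ⟨_, rfl⟩
  obtain ⟨pr₁, hpr₁⟩ : ∃ pr₁ : Spec (CommRingCat.of D.T) ⟶ Spec (CommRingCat.of K),
      pr₁ = Spec.map (CommRingCat.ofHom D.ι₂) := ⟨_, rfl⟩
  have sq : IsPullback pr₁ h ξ (U.ι ≫ X.hom) := by rw [hpr₁, hh, hξ]; exact D.sq
  -- objects and points over `S`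
  obtain ⟨p₁, hp₁⟩ : ∃ p₁ : Over.mk (pr₁ ≫ ξ) ⟶ X, p₁.left = pr₁ ≫ x :=
    ⟨Over.homMk (pr₁ ≫ x) (by
      show (pr₁ ≫ x) ≫ X.hom = pr₁ ≫ ξ
      rw [Category.assoc, hx]), rfl⟩
  obtain ⟨ho, hho⟩ : ∃ ho : Over.mk (pr₁ ≫ ξ) ⟶ Over.mk (U.ι ≫ X.hom), ho.left = h :=
    ⟨Over.homMk h (by
      show h ≫ (U.ι ≫ X.hom) = pr₁ ≫ ξ
      exact sq.w.symm), rfl⟩
  obtain ⟨ιo, hιo⟩ : ∃ ιo : Over.mk (U.ι ≫ X.hom) ⟶ X, ιo.left = U.ι :=
    ⟨Over.homMk U.ι rfl, rfl⟩
  obtain ⟨ggη, hggη⟩ : ∃ ggη : Over.mk (pr₁ ≫ ξ) ⟶ Red.bc s G,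
      Tors.sm a ggη (ho ≫ ιo) = p₁ := ⟨Tors.diff a hpt p₁ (ho ≫ ιo), Tors.sm_diff a hpt _ _⟩
  have hwgg : ggη.left ≫ pullback.snd G.hom s = pr₁ ≫ ξ := Over.w ggη
  have hgg : (ggη.left ≫ pullback.fst G.hom s) ≫ G.hom =
      (Spec.map (CommRingCat.ofHom D.ι₁) ≫ hU.isoSpec.inv) ≫ ((U.ι ≫ X.hom) ≫ s) := by
    rw [Category.assoc, pullback.condition, ← Category.assoc, hwgg, ← hh, ← Category.assoc, sq.w]
  obtain ⟨gg', hgg'1, hgg'2⟩ := extend_to_U hU D.ι₁ D.inj D.ic G.hom ((U.ι ≫ X.hom) ≫ s)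
    (ggη.left ≫ pullback.fst G.hom s) hgg
  rw [← hh] at hgg'1
  obtain ⟨gg, hggl⟩ : ∃ gg : Over.mk (U.ι ≫ X.hom) ⟶ Red.bc s G,
      gg.left = pullback.lift gg' (U.ι ≫ X.hom) hgg'2 :=
    ⟨Over.homMk (pullback.lift gg' (U.ι ≫ X.hom) hgg'2) (pullback.lift_snd _ _ _), rfl⟩
  have hggcomp : ho ≫ gg = ggη := by
    apply Over.OverMorphism.ext
    rw [Over.comp_left, hho, hggl]
    apply pullback.hom_ext
    · rw [Category.assoc, pullback.lift_fst, hgg'1]
    · rw [Category.assoc, pullback.lift_snd, hwgg, sq.w]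
  have hτo : ho ≫ Tors.sm a gg ιo = p₁ := by
    rw [Tors.comp_sm, hggcomp]
    exact hggη
  haveI : Nonempty (Spec (CommRingCat.of D.T)) := (inferInstance : Nonempty (PrimeSpectrum D.T))
  haveI : Etale (U.ι ≫ X.hom) := inferInstance
  obtain ⟨V, w, hV1, hV2, hV3⟩ := descend X.hom U ξ pr₁ h sq x (Tors.sm a gg ιo).left
    (Over.w (Tors.sm a gg ιo)) (by
      have h1 := congrArg (fun m => m.left) hτo
      simp only [Over.comp_left, hho, hp₁] at h1
      exact h1)
  exact ⟨V, w, hV1 ⟨e', he'U⟩, hV2, hV3⟩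

end loc

section main

variable (k : Type u) [Field k] (G : Over (Spec (CommRingCat.of k))) [GrpObj G] [Etale G.hom]
  (S : Scheme.{u}) [IsIntegral S] (hS : Pi1.IsNormalScheme S) (s : S ⟶ Spec (CommRingCat.of k))
  (E : NonAbH1.TorsorSch (Red.bc s G) Scheme.fppfPrecoverage)

set_option maxHeartbeats 1600000 in
include hS in
theorem main_S15873 :
    (∀ σ₁ σ₂ : S ⟶ E.X.left, σ₁ ≫ E.X.hom = 𝟙 S → σ₂ ≫ E.X.hom = 𝟙 S →
        S.fromSpecResidueField (genericPoint S) ≫ σ₁ =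
          S.fromSpecResidueField (genericPoint S) ≫ σ₂ → σ₁ = σ₂) ∧
    (∀ x : Spec (S.residueField (genericPoint S)) ⟶ E.X.left,
        x ≫ E.X.hom = S.fromSpecResidueField (genericPoint S) →
        ∃ σ : S ⟶ E.X.left, σ ≫ E.X.hom = 𝟙 S ∧
          S.fromSpecResidueField (genericPoint S) ≫ σ = x) := by
  haveI : IsSeparated G.hom := Groth.Agent.H9.GZB.isSeparated_hom G
  have hGSet : Etale (Red.bc s G).hom := by
    show Etale (pullback.snd G.hom s); infer_instance
  have hGSsep : IsSeparated (Red.bc s G).hom := by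
    show IsSeparated (pullback.snd G.hom s); infer_instance
  haveI : Etale E.X.hom := Groth.Agent.H3.TorsorProp.hom_of_isTorsorFor E.act @Etale
    Scheme.fppfPrecoverage E.isTorsor hGSet
  haveI : IsSeparated E.X.hom := Groth.Agent.H3.TorsorProp.hom_of_isTorsorFor E.act @IsSeparated
    Scheme.fppfPrecoverage E.isTorsor hGSsep
  haveI : Surjective E.X.hom := Groth.Agent.H3.TorsorProp.hom_of_isTorsorFor E.act @Surjective
    Scheme.fppfPrecoverage E.isTorsor Groth.Agent.H3.TorsorProp.surjective_hom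
  obtain ⟨ξ, hξ⟩ : ∃ ξ : Spec (S.residueField (genericPoint S)) ⟶ S,
      ξ = S.fromSpecResidueField (genericPoint S) := ⟨_, rfl⟩
  obtain ⟨pt⟩ : Nonempty (Spec (S.residueField (genericPoint S))) := inferInstance
  have hξpt : ξ pt = genericPoint S := by rw [hξ]; exact Scheme.fromSpecResidueField_apply _ _
  haveI : IsDominant ξ := by
    haveI : IsOpenImmersion (𝟙 S) := inferInstance
    have := isDominant_of_generic (𝟙 S) ξ pt (by simpa using hξpt)
    exact this
  haveI : Finite (Spec (S.residueField (genericPoint S))) :=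
    (inferInstance : Finite (PrimeSpectrum (S.residueField (genericPoint S))))
  haveI : QuasiCompact ξ := ⟨fun U _ _ => (Set.toFinite _).isCompact⟩
  rw [← hξ]
  refine ⟨fun σ₁ σ₂ h₁ h₂ h => ?_, fun x hx => ?_⟩
  · exact ext_of_isDominant_of_isSeparated E.X.hom (by rw [h₁, h₂]) ξ h
  · -- local sections
    have hloc : ∀ s₀ : S, ∃ (V : S.Opens) (w : (V : Scheme.{u}) ⟶ E.X.left), s₀ ∈ V ∧
        w ≫ E.X.hom = V.ι ∧
        ∀ j : Spec (S.residueField (genericPoint S)) ⟶ (V : Scheme.{u}), j ≫ V.ι = ξ →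
          j ≫ w = x := by
      intro s₀
      obtain ⟨e', he'⟩ := (inferInstance : Surjective E.X.hom).surj s₀
      obtain ⟨V₀, hV₀, hsV₀⟩ : ∃ V₀ : S.Opens, IsAffineOpen V₀ ∧ s₀ ∈ V₀ := by
        obtain ⟨_, ⟨V₀, hV₀, rfl⟩, h1, -⟩ := S.isBasis_affineOpens.exists_subset_of_mem_open
          (Set.mem_univ s₀) isOpen_univ
        exact ⟨V₀, hV₀, h1⟩
      haveI : Nonempty V₀ := ⟨⟨s₀, hsV₀⟩⟩
      haveI : IsDomain Γ(S, V₀) := inferInstance
      haveI : IsIntegrallyClosed Γ(S, V₀) :=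
        Groth.Agent.H8.RatSec.isIntegrallyClosed_of_normal hS hV₀
      obtain ⟨ψ, hfr, hξeq⟩ := generic_setup S hV₀
      letI : Algebra Γ(S, V₀) (S.residueField (genericPoint S)) := ψ.toAlgebra
      haveI : IsFractionRing Γ(S, V₀) (S.residueField (genericPoint S)) := hfr
      obtain ⟨V, w, h1, h2, h3⟩ := exists_local_section G s E.act E.isTorsor.1 hV₀
        (S.residueField (genericPoint S)) ξ (by rw [hξ, hξeq]) x hx e'
        (by rw [he']; exact hsV₀)
      exact ⟨V, w, he' ▸ h1, h2, h3⟩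
    choose V w hsV hwf hwx using hloc
    have hcov : TopologicalSpace.IsOpenCover V := by
      show iSup V = ⊤
      rw [eq_top_iff]
      intro y _
      exact TopologicalSpace.Opens.mem_iSup.mpr ⟨y, hsV y⟩
    have hlift : ∀ a : S, ∃ j : Spec (S.residueField (genericPoint S)) ⟶ (V a : Scheme.{u}),
        j ≫ (V a).ι = ξ := fun a => by
      rw [hξ]; exact exists_lift_generic S (V a) ⟨a, hsV a⟩
    choose jj hjj using hlift
    have compat : ∀ a b : S,
        pullback.fst ((V a).ι) ((V b).ι) ≫ w a = pullback.snd ((V a).ι) ((V b).ι) ≫ w b := by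
      intro a b
      haveI : IsReduced (pullback ((V a).ι) ((V b).ι)) :=
        isReduced_of_isOpenImmersion (pullback.fst ((V a).ι) ((V b).ι))
      obtain ⟨q, hq⟩ : ∃ q : pullback ((V a).ι) ((V b).ι) ⟶ S,
          q = pullback.fst ((V a).ι) ((V b).ι) ≫ (V a).ι := ⟨_, rfl⟩
      haveI : IsOpenImmersion q := hq ▸ inferInstance
      obtain ⟨j, hj1, hj2⟩ : ∃ j : Spec (S.residueField (genericPoint S)) ⟶
          pullback ((V a).ι) ((V b).ι), j ≫ pullback.fst _ _ = jj a ∧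
            j ≫ pullback.snd _ _ = jj b :=
        ⟨pullback.lift (jj a) (jj b) (by rw [hjj, hjj]), pullback.lift_fst _ _ _,
          pullback.lift_snd _ _ _⟩
      haveI : IsDominant j := by
        refine isDominant_of_generic q j pt ?_
        rw [← Scheme.Hom.comp_apply, hq, ← Category.assoc, hj1, hjj, hξpt]
      refine ext_of_isDominant_of_isSeparated E.X.hom ?_ j ?_
      · rw [Category.assoc, Category.assoc, hwf, hwf, pullback.condition]
      · rw [← Category.assoc, hj1, ← Category.assoc, hj2, hwx a (jj a) (hjj a),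
          hwx b (jj b) (hjj b)]
    obtain ⟨𝒰, h𝒰⟩ : ∃ 𝒰 : S.OpenCover, 𝒰 = S.openCoverOfIsOpenCover V hcov := ⟨_, rfl⟩
    subst h𝒰
    refine ⟨(S.openCoverOfIsOpenCover V hcov).glueMorphisms w compat, ?_, ?_⟩
    · refine Scheme.Cover.hom_ext (S.openCoverOfIsOpenCover V hcov) _ _ fun o => ?_
      show (V o).ι ≫ _ ≫ E.X.hom = (V o).ι ≫ 𝟙 S
      rw [← Category.assoc]
      erw [Scheme.Cover.ι_glueMorphisms (S.openCoverOfIsOpenCover V hcov) w compat o]
      rw [hwf, Category.comp_id]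
    · rw [← hjj (genericPoint S), Category.assoc]
      erw [Scheme.Cover.ι_glueMorphisms (S.openCoverOfIsOpenCover V hcov) w compat
        (genericPoint S)]
      exact hwx _ _ (hjj _)

end main

section equiv

variable {S : Scheme.{u}} {G : Over S} [GrpObj G]

lemma equivIso_refl {X : Over S} (a : AlgGrp.Action G X) : Nonempty (NonAbH1.EquivIso a a) :=
  ⟨⟨Iso.refl X, by
    rw [Iso.refl_hom, Category.comp_id, MonoidalCategory.whiskerLeft_id, Category.id_comp]⟩⟩

lemma equivIso_symm {X X' : Over S} {a : AlgGrp.Action G X} {a' : AlgGrp.Action G X'}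
    (e : NonAbH1.EquivIso a a') : Nonempty (NonAbH1.EquivIso a' a) :=
  ⟨⟨e.iso.symm, by
    have h := e.comm
    rw [Iso.symm_hom, ← cancel_mono e.iso.hom, Category.assoc, Iso.inv_hom_id, Category.comp_id,
      Category.assoc, h, ← MonoidalCategory.whiskerLeft_comp_assoc, Iso.inv_hom_id,
      MonoidalCategory.whiskerLeft_id, Category.id_comp]⟩⟩

lemma equivIso_trans {X X' X'' : Over S} {a : AlgGrp.Action G X} {a' : AlgGrp.Action G X'}
    {a'' : AlgGrp.Action G X''}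
    (e : NonAbH1.EquivIso a a') (e' : NonAbH1.EquivIso a' a'') :
    Nonempty (NonAbH1.EquivIso a a'') :=
  ⟨⟨e.iso ≪≫ e'.iso, by
    rw [Iso.trans_hom, ← Category.assoc, e.comm, Category.assoc, e'.comm, ← Category.assoc,
      ← MonoidalCategory.whiskerLeft_comp]⟩⟩

lemma equivIso_of_cl_eq {K : Precoverage Scheme.{u}} {P Q : NonAbH1.TorsorSch G K}
    (h : (Quot.mk _ P : NonAbH1.H1Sch G K) = Quot.mk _ Q) :
    Nonempty (NonAbH1.EquivIso P.act Q.act) := by
  have h' := Quot.eq.mp h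
  clear h
  induction h' with
  | rel x y hxy => exact hxy
  | refl x => exact equivIso_refl x.act
  | symm x y _ ih => obtain ⟨e⟩ := ih; exact equivIso_symm e
  | trans x y z _ _ ih1 ih2 =>
    obtain ⟨e1⟩ := ih1
    obtain ⟨e2⟩ := ih2
    exact equivIso_trans e1 e2

/-- a pseudo-torsor with a section is equivariantly isomorphic to the trivial torsor -/
theorem equivIso_of_section {X : Over S} (a : AlgGrp.Action G X)
    (hpt : NonAbH1.IsPseudoTorsorSch a) (σ₀ : 𝟙_ (Over S) ⟶ X) :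
    Nonempty (NonAbH1.EquivIso (NonAbH1.trivialAction G) a) := by
  obtain ⟨φ, hφ⟩ : ∃ φ : G ⟶ X, φ = Tors.sm a (𝟙 G) (toUnit G ≫ σ₀) := ⟨_, rfl⟩
  obtain ⟨ψ, hψ⟩ : ∃ ψ : X ⟶ G, ψ = Tors.diff a hpt (𝟙 X) (toUnit X ≫ σ₀) := ⟨_, rfl⟩
  have h1 : φ ≫ ψ = 𝟙 G := by
    rw [hψ, Tors.comp_diff, Category.comp_id, ← Category.assoc,
      toUnit_unique (φ ≫ toUnit X) (toUnit G)]
    exact (Tors.diff_unique a hpt _ _ (𝟙 G) hφ.symm).symm
  have h2 : ψ ≫ φ = 𝟙 X := by
    rw [hφ, Tors.comp_sm, Category.comp_id, ← Category.assoc,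
      toUnit_unique (ψ ≫ toUnit G) (toUnit X), hψ]
    exact Tors.sm_diff a hpt _ _
  refine ⟨⟨⟨φ, ψ, h1, h2⟩, ?_⟩⟩
  show μ[G] ≫ φ = (G ◁ φ) ≫ a.act
  have hμ : (μ[G] : G ⊗ G ⟶ G) = fst G G * snd G G := by
    rw [Hom.mul_def, lift_fst_snd, Category.id_comp]
  have hw : G ◁ φ = lift (fst G G) (snd G G ≫ φ) := by
    apply CartesianMonoidalCategory.hom_ext
    · rw [whiskerLeft_fst, lift_fst]
    · rw [whiskerLeft_snd, lift_snd]
  have e1 : μ[G] ≫ φ = Tors.sm a (fst G G) (Tors.sm a (snd G G) (toUnit (G ⊗ G) ≫ σ₀)) := by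
    rw [hφ, Tors.comp_sm, Category.comp_id, ← Category.assoc,
      toUnit_unique (μ[G] ≫ toUnit G) (toUnit (G ⊗ G)), hμ, Tors.sm_mul]
  have e2 : snd G G ≫ φ = Tors.sm a (snd G G) (toUnit (G ⊗ G) ≫ σ₀) := by
    rw [hφ, Tors.comp_sm, Category.comp_id, ← Category.assoc,
      toUnit_unique (snd G G ≫ toUnit G) (toUnit (G ⊗ G))]
  rw [e1, hw, ← e2]
  rfl

end equiv

section main2

variable (k : Type u) [Field k] (G : Over (Spec (CommRingCat.of k))) [GrpObj G] [Etale G.hom]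
  (S : Scheme.{u}) [IsIntegral S] (hS : Pi1.IsNormalScheme S) (s : S ⟶ Spec (CommRingCat.of k))

include hS in
theorem main_S15874 (c : NonAbH1.H1Sch (Red.bc s G) Scheme.fppfPrecoverage)
    (hc : NonAbH1.H1Sch.bcMap (S.fromSpecResidueField (genericPoint S)) (Red.bc s G)
      Scheme.fppfPrecoverage c = 1) : c = 1 := by
  obtain ⟨E, rfl⟩ := Quot.exists_rep c
  obtain ⟨e⟩ := equivIso_of_cl_eq (P := E.bc (S.fromSpecResidueField (genericPoint S)))
    (Q := ⟨Red.bc (S.fromSpecResidueField (genericPoint S)) (Red.bc s G),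
      NonAbH1.trivialAction _, NonAbH1.isTorsorFor_trivialAction _ _⟩) hc
  -- a generic point of `E`
  obtain ⟨x', hx'⟩ : ∃ x' : 𝟙_ (Over (Spec (S.residueField (genericPoint S)))) ⟶
      Red.bc (S.fromSpecResidueField (genericPoint S)) E.X,
      x' = η[Red.bc (S.fromSpecResidueField (genericPoint S)) (Red.bc s G)] ≫ e.iso.inv :=
    ⟨_, rfl⟩
  have hwx' : x'.left ≫ pullback.snd E.X.hom (S.fromSpecResidueField (genericPoint S)) =
      𝟙 _ := Over.w x'
  obtain ⟨σ, hσ1, -⟩ := (main_S15873 k G S hS s E).2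
    (x'.left ≫ pullback.fst E.X.hom (S.fromSpecResidueField (genericPoint S))) (by
      rw [Category.assoc, pullback.condition, ← Category.assoc, hwx']
      exact Category.id_comp _)
  obtain ⟨e2⟩ := equivIso_of_section E.act E.isTorsor.1
    (Over.homMk σ (by rw [hσ1]; rfl) : 𝟙_ (Over S) ⟶ E.X)
  obtain ⟨e3⟩ := equivIso_symm e2
  exact Quot.sound ⟨e3⟩

end main2

end Groth.Agent.H8.EtTors
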